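import Groth.Prelude.Def_W4c5modbuncurvesppStab
import Mathlib

/-!
Cuts, connectivity and sides of edges in finite multigraphs.
-/

set_option autoImplicit false
set_option linter.style.haveILetI false

universe u

namespace Groth.Agent.GraphCutLib

variable {V E : Type u} [Fintype V] [Fintype E] [DecidableEq V] [DecidableEq E] (ends : E → V × V)

/-- No edge joins `A` and `B`. -/
def NoEdge (A B : Finset V) : Prop :=
  ∀ e : E, ¬ (((ends e).1 ∈ A ∧ (ends e).2 ∈ B) ∨ ((ends e).2 ∈ A ∧ (ends e).1 ∈ B))

/-- `S` cannot be split into two parts without edges between them. -/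
def NoSplit (S : Finset V) : Prop :=
  ∀ A B : Finset V, A.Nonempty → B.Nonempty → Disjoint A B → A ∪ B = S → ¬ NoEdge ends A B

omit [Fintype V] [Fintype E] [DecidableEq E] in
theorem exists_split {S : Finset V} (h : ¬ NoSplit ends S) :
    ∃ A B : Finset V, A.Nonempty ∧ B.Nonempty ∧ Disjoint A B ∧ A ∪ B = S ∧ NoEdge ends A B := by
  simpa [NoSplit, and_assoc] using h

omit [DecidableEq E] in
theorem connected_indEnds_of_noSplit {S : Finset V} (hne : S.Nonempty) (h : NoSplit ends S) :
    LabGraph.Connected (PhiStab.indEnds ends S) := by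
  classical
  obtain ⟨v₀, hv₀⟩ := hne
  refine ⟨⟨⟨v₀, hv₀⟩⟩, fun v w => ?_⟩
  let A := S.filter fun x => ∃ hx : x ∈ S,
    Relation.ReflTransGen (LabGraph.Adj (PhiStab.indEnds ends S)) v ⟨x, hx⟩
  by_contra hvw
  refine h A (S \ A) ⟨v.1, ?_⟩ ⟨w.1, ?_⟩ Finset.disjoint_sdiff ?_ ?_
  · exact Finset.mem_filter.2 ⟨v.2, v.2, .refl⟩
  · refine Finset.mem_sdiff.2 ⟨w.2, fun hw => ?_⟩
    obtain ⟨-, hw', hr⟩ := Finset.mem_filter.1 hw
    exact hvw hr
  · exact Finset.union_sdiff_of_subset (Finset.filter_subset _ _)
  · intro e he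
    have key : ∀ x y, x ∈ A → y ∈ S \ A → (ends e = (x, y) ∨ ends e = (y, x)) → False := by
      intro x y hx hy hxy
      obtain ⟨-, hxS, hr⟩ := Finset.mem_filter.1 hx
      obtain ⟨hyS, hyA⟩ := Finset.mem_sdiff.1 hy
      refine hyA (Finset.mem_filter.2 ⟨hyS, hyS, hr.tail ⟨⟨e, ?_⟩, ?_⟩⟩)
      · simp only [PhiStab.inner, Finset.mem_filter, Finset.mem_univ, true_and]
        rcases hxy with hh | hh <;> rw [hh] <;> simp [hxS, hyS]
      · rcases hxy with hh | hh
        · exact Or.inl (Prod.ext (Subtype.ext (congrArg Prod.fst hh)) (Subtype.ext (congrArg Prod.snd hh)))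
        · exact Or.inr (Prod.ext (Subtype.ext (congrArg Prod.fst hh)) (Subtype.ext (congrArg Prod.snd hh)))
    rcases he with ⟨h1, h2⟩ | ⟨h1, h2⟩
    · exact key _ _ h1 h2 (Or.inl rfl)
    · exact key _ _ h1 h2 (Or.inr rfl)

omit [Fintype E] [DecidableEq E] in
theorem exists_crossing (hconn : LabGraph.Connected ends) {A : Finset V} (hA : A.Nonempty)
    (hAc : Aᶜ.Nonempty) : ¬ NoEdge ends A Aᶜ := by
  intro hno
  obtain ⟨a, ha⟩ := hA
  obtain ⟨b, hb⟩ := hAc
  have h : ∀ w, Relation.ReflTransGen (LabGraph.Adj ends) a w → w ∈ A := by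
    intro w hw
    induction hw with
    | refl => exact ha
    | @tail x y _ hxy ih =>
      obtain ⟨e, he⟩ := hxy
      by_contra hy
      rcases he with he | he
      · exact hno e (Or.inl ⟨by simp [he, ih], by simp [he, hy]⟩)
      · exact hno e (Or.inr ⟨by simp [he, ih], by simp [he, hy]⟩)
  exact (Finset.mem_compl.1 hb) (h b (hconn.2 a b))

omit [Fintype E] [DecidableEq E] in
/-- In a connected graph, a connected set together with one side of a splitting of its complement is connected. -/
theorem noSplit_union (hconn : LabGraph.Connected ends) {S A B : Finset V} (hne : S.Nonempty)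
    (hS : NoSplit ends S) (hcompl : A ∪ B = Sᶜ) (hd : Disjoint A B) (hAB : NoEdge ends A B) :
    NoSplit ends (S ∪ B) := by
  intro P Q hP hQ hPQ hu hno
  wlog hSP : S ⊆ P generalizing P Q
  · refine this Q P hQ hP hPQ.symm (by rw [Finset.union_comm]; exact hu) ?_ ?_
    · exact fun e he => hno e (by tauto)
    · intro x hx
      rcases Finset.mem_union.1 (hu.symm ▸ Finset.mem_union_left B hx) with h | h
      · exfalso
        refine hS (S ∩ P) (S ∩ Q) ⟨x, by simp [hx, h]⟩ ?_ ?_ ?_ ?_
        · obtain ⟨y, hy, hyP⟩ := Finset.not_subset.1 hSP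
          rcases Finset.mem_union.1 (hu.symm ▸ Finset.mem_union_left B hy) with h' | h'
          · exact absurd h' hyP
          · exact ⟨y, by simp [hy, h']⟩
        · exact hPQ.mono Finset.inter_subset_right Finset.inter_subset_right
        · rw [← Finset.inter_union_distrib_left, hu]; simp
        · exact fun e he => hno e (by simp only [Finset.mem_inter] at he; tauto)
      · exact h
  have hQB : ∀ x ∈ Q, x ∈ B := fun x hx => by
    rcases Finset.mem_union.1 (hu ▸ Finset.mem_union_right P hx) with h | h
    · exact absurd (hSP h) (Finset.disjoint_right.1 hPQ hx)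
    · exact h
  obtain ⟨s, hs⟩ := hne
  refine exists_crossing ends hconn hQ ⟨s, Finset.mem_compl.2 (Finset.disjoint_left.1 hPQ (hSP hs))⟩ ?_
  intro e he
  have key : ∀ x y, x ∈ Q → y ∉ Q →
      ((ends e).1 = x ∧ (ends e).2 = y ∨ (ends e).2 = x ∧ (ends e).1 = y) → False := by
    intro x y hx hy hxy
    by_cases hyS : y ∈ S ∪ B
    · have hyP : y ∈ P := by
        rcases Finset.mem_union.1 (hu.symm ▸ hyS) with h | h
        · exact h
        · exact absurd h hy
      rcases hxy with ⟨h1, h2⟩ | ⟨h1, h2⟩
      · exact hno e (Or.inr ⟨h2 ▸ hyP, h1 ▸ hx⟩)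
      · exact hno e (Or.inl ⟨h2 ▸ hyP, h1 ▸ hx⟩)
    · rw [Finset.mem_union, not_or] at hyS
      have hyA : y ∈ A := by
        rcases Finset.mem_union.1 (hcompl.symm ▸ Finset.mem_compl.2 hyS.1) with h | h
        · exact h
        · exact absurd h hyS.2
      rcases hxy with ⟨h1, h2⟩ | ⟨h1, h2⟩
      · exact hAB e (Or.inr ⟨h2 ▸ hyA, h1 ▸ hQB x hx⟩)
      · exact hAB e (Or.inl ⟨h2 ▸ hyA, h1 ▸ hQB x hx⟩)
  rcases he with ⟨h1, h2⟩ | ⟨h1, h2⟩
  · exact key _ _ h1 (Finset.mem_compl.1 h2) (Or.inl ⟨rfl, rfl⟩)
  · exact key _ _ h1 (Finset.mem_compl.1 h2) (Or.inr ⟨rfl, rfl⟩)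

/-- A predicate additive on separated sets holds for all proper nonempty sets once it holds for the
elementary ones, if it is also compatible with complements of splittings. -/
theorem induction_elementary (hconn : LabGraph.Connected ends) (p : Finset V → Prop)
    (hadd : ∀ A B, Disjoint A B → NoEdge ends A B → p A → p B → p (A ∪ B))
    (hcompl : ∀ A B, Disjoint A B → NoEdge ends A B → p Aᶜ → p Bᶜ → p (A ∪ B)ᶜ)
    (hel : ∀ S, PhiStab.IsElementary ends S → p S)
    {S : Finset V} (hne : S.Nonempty) (hproper : S ≠ Finset.univ) : p S := by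
  classical
  have hconnected : ∀ (n : ℕ) (S : Finset V), Sᶜ.card = n → S.Nonempty → Sᶜ.Nonempty →
      NoSplit ends S → p S := by
    intro n
    induction n using Nat.strong_induction_on with
    | _ n ih =>
      intro S hn hne hc hS
      by_cases hSc : NoSplit ends Sᶜ
      · exact hel S ⟨connected_indEnds_of_noSplit ends hne hS, connected_indEnds_of_noSplit ends hc hSc⟩
      obtain ⟨A, B, hA, hB, hd, hu, hno⟩ := exists_split ends hSc
      have hno' : NoEdge ends B A := fun e he => hno e (by tauto)
      have hAc : Aᶜ = S ∪ B := by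
        ext x
        have hx := Finset.ext_iff.1 hu x
        have hx' := fun h : x ∈ A => Finset.disjoint_left.1 hd h
        simp only [Finset.mem_union, Finset.mem_compl] at hx ⊢
        tauto
      have hBc : Bᶜ = S ∪ A := by
        ext x
        have hx := Finset.ext_iff.1 hu x
        have hx' := fun h : x ∈ A => Finset.disjoint_left.1 hd h
        simp only [Finset.mem_union, Finset.mem_compl] at hx ⊢
        tauto
      rw [← compl_compl S, ← hu]
      refine hcompl A B hd hno ?_ ?_
      · refine ih A.card ?_ Aᶜ (by rw [compl_compl]) (hne.mono (hAc ▸ Finset.subset_union_left))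
          (by rwa [compl_compl]) (hAc ▸ noSplit_union ends hconn hne hS hu hd hno)
        rw [← hn, ← hu, Finset.card_union_of_disjoint hd]
        have := hB.card_pos
        omega
      · refine ih B.card ?_ Bᶜ (by rw [compl_compl]) (hne.mono (hBc ▸ Finset.subset_union_left))
          (by rwa [compl_compl])
          (hBc ▸ noSplit_union ends hconn hne hS (by rw [Finset.union_comm]; exact hu) hd.symm hno')
        rw [← hn, ← hu, Finset.card_union_of_disjoint hd]
        have := hA.card_pos
        omega
  have hall : ∀ (n : ℕ) (S : Finset V), S.card = n → S.Nonempty → Sᶜ.Nonempty → p S := by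
    intro n
    induction n using Nat.strong_induction_on with
    | _ n ih =>
      intro S hn hne hc
      by_cases hS : NoSplit ends S
      · exact hconnected _ S rfl hne hc hS
      obtain ⟨A, B, hA, hB, hd, rfl, hno⟩ := exists_split ends hS
      rw [Finset.card_union_of_disjoint hd] at hn
      have h1 := hA.card_pos
      have h2 := hB.card_pos
      refine hadd A B hd hno (ih _ (by omega) A rfl hA ?_) (ih _ (by omega) B rfl hB ?_)
      · exact hc.mono (Finset.compl_subset_compl.2 Finset.subset_union_left)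
      · exact hc.mono (Finset.compl_subset_compl.2 Finset.subset_union_right)
  exact hall _ S rfl hne (Finset.nonempty_iff_ne_empty.2 fun h => hproper (Finset.compl_eq_empty_iff S |>.1 h))

omit [Fintype V] [Fintype E] [DecidableEq V] in
theorem endCount_parity (γ : E → ZMod 2) (v : V) [Fintype E] [DecidableEq V] :
    (LabGraph.endCount ends (Finset.univ.filter fun e => γ e = 1) v : ZMod 2) =
      ∑ e : E, γ e * ((if (ends e).1 = v then 1 else 0) + (if (ends e).2 = v then 1 else 0)) := by
  simp only [LabGraph.endCount, Nat.cast_sum, Nat.cast_add, Nat.cast_ite, Nat.cast_one, Nat.cast_zero,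
    Finset.sum_filter]
  refine Finset.sum_congr rfl fun e _ => ?_
  rcases (show ∀ x : ZMod 2, x = 0 ∨ x = 1 by decide) (γ e) with h | h
  · simp [h]
  · simp [h]

/-- In a forest the second endpoint of an edge is not on the first side. -/
theorem snd_notMem_side (hf : DualGr.IsForest ends) (e : E) : (ends e).2 ∉ PhiStab.side ends e := by
  classical
  intro hb
  simp only [PhiStab.side, Finset.mem_filter, Finset.mem_univ, true_and] at hb
  let ι : V → V → ZMod 2 := fun x v => if x = v then 1 else 0
  have key : ∀ w, Relation.ReflTransGen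
      (LabGraph.Adj (PhiStab.spanEnds ends (Finset.univ.erase e))) (ends e).1 w →
      ∃ γ : E → ZMod 2, γ e = 0 ∧ ∀ v, ∑ e' : E, γ e' * (ι (ends e').1 v + ι (ends e').2 v) =
        ι (ends e).1 v + ι w v := by
    intro w hw
    induction hw with
    | refl => exact ⟨0, rfl, fun v => by simp [ι]; split_ifs <;> decide⟩
    | @tail x y _ hxy ih =>
      obtain ⟨γ, hγe, hγ⟩ := ih
      obtain ⟨⟨e', he'⟩, hadj⟩ := hxy
      refine ⟨γ + Pi.single e' 1, ?_, fun v => ?_⟩
      · simp [hγe, Pi.single_eq_of_ne (Finset.ne_of_mem_erase he').symm]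
      · simp only [Pi.add_apply, add_mul, Finset.sum_add_distrib, hγ, Pi.single_apply, ite_mul,
          one_mul, zero_mul, Finset.sum_ite_eq', Finset.mem_univ, if_true]
        have h2 : ι x v + ι x v = 0 := CharTwo.add_self_eq_zero _
        rcases hadj with h | h <;>
          (simp only [PhiStab.spanEnds] at h; rw [h]; linear_combination h2)
  obtain ⟨γ, hγe, hγ⟩ := key _ hb
  let γ' := γ + Pi.single e 1
  let C := Finset.univ.filter fun e' => γ' e' = 1
  have heven : ∀ v, Even (LabGraph.endCount ends C v) := by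
    intro v
    rw [← ZMod.natCast_eq_zero_iff_even, endCount_parity ends γ' v]
    simp only [γ', Pi.add_apply, add_mul, Finset.sum_add_distrib, Pi.single_apply, ite_mul, one_mul,
      zero_mul, Finset.sum_ite_eq', Finset.mem_univ, if_true]
    exact (congrArg (· + _) (hγ v)).trans (CharTwo.add_self_eq_zero _)
  let T := (Finset.univ : Finset (Finset E)).filter
    fun C => C.Nonempty ∧ ∀ v, Even (LabGraph.endCount ends C v)
  have hT : T.Nonempty := ⟨C, by
    simp only [T, Finset.mem_filter, Finset.mem_univ, true_and]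
    exact ⟨⟨e, by simp [C, γ', hγe]⟩, heven⟩⟩
  obtain ⟨C₀, hC₀, hmin⟩ := T.exists_min_image Finset.card hT
  simp only [T, Finset.mem_filter, Finset.mem_univ, true_and] at hC₀ hmin
  refine hf C₀ ⟨hC₀.1, hC₀.2, fun C' hC' hne => ?_⟩
  by_contra hc
  push Not at hc
  exact absurd (hmin C' ⟨hne, hc⟩) (not_le.2 (Finset.card_lt_card hC'))

end Groth.Agent.GraphCutLib
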