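import Groth.Agent.GraphCutLib.Basic

/-!
Real flows on finite multigraphs and the stable data they give by rounding.
-/

set_option autoImplicit false

universe u

namespace Groth.Agent.GraphCutLib

variable {V E : Type u} [Fintype V] [Fintype E] [DecidableEq V] [DecidableEq E] (ends : E → V × V)

/-- Indicator of membership. -/
def ind (S : Finset V) (v : V) : ℝ := if v ∈ S then 1 else 0

/-- The divergence of an edge function supported on `T`. -/
noncomputable def dv (T : Finset E) : (E → ℝ) →ₗ[ℝ] (V → ℝ) where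
  toFun g v := ∑ e ∈ T, g e * ((if (ends e).1 = v then 1 else 0) - (if (ends e).2 = v then 1 else 0))
  map_add' g h := by
    funext v
    simp [add_mul, Finset.sum_add_distrib]
  map_smul' c g := by
    funext v
    simp [Finset.mul_sum, mul_assoc]

omit [Fintype V] [Fintype E] [DecidableEq E] in
theorem sum_dv (T : Finset E) (g : E → ℝ) (S : Finset V) :
    ∑ v ∈ S, dv ends T g v = ∑ e ∈ T, g e * (ind S (ends e).1 - ind S (ends e).2) := by
  simp only [dv, LinearMap.coe_mk, AddHom.coe_mk]
  rw [Finset.sum_comm]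
  simp [← Finset.mul_sum, Finset.sum_sub_distrib, ind]

omit [Fintype E] in
theorem exists_flow (T : Finset E) (hT : LabGraph.Connected (PhiStab.spanEnds ends T))
    (t : V → ℝ) (ht : ∑ v, t v = 0) : ∃ g, dv ends T g = t := by
  classical
  obtain ⟨r⟩ := hT.1
  have h : ∀ u, (Pi.single u 1 - Pi.single r 1 : V → ℝ) ∈ LinearMap.range (dv ends T) := by
    intro u
    have hu := hT.2 r u
    induction hu with
    | refl => simp
    | @tail x y _ hxy ih =>
      obtain ⟨⟨e, he⟩, hadj⟩ := hxy
      have hd : dv ends T (Pi.single e 1) =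
          (Pi.single (ends e).1 1 - Pi.single (ends e).2 1 : V → ℝ) := by
        funext v
        simp [dv, Pi.single_apply, Finset.sum_ite_eq', he, eq_comm]
      have hs : (Pi.single (ends e).1 1 - Pi.single (ends e).2 1 : V → ℝ) ∈
          LinearMap.range (dv ends T) := ⟨_, hd⟩
      simp only [PhiStab.spanEnds] at hadj
      rcases hadj with h | h <;> rw [h] at hs
      · simpa using Submodule.sub_mem _ ih hs
      · simpa [sub_add_sub_cancel, add_comm] using Submodule.add_mem _ hs ih
  have hsum : ∑ u, t u • (Pi.single u 1 - Pi.single r 1 : V → ℝ) = t := by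
    funext v
    simp [Finset.sum_apply, Pi.single_apply, mul_sub, Finset.sum_sub_distrib, ht]
  exact hsum ▸ Submodule.sum_mem _ fun u _ => Submodule.smul_mem _ _ (h u)

/-- The target divergence for the datum with non-free edge set `Tᶜ`. -/
noncomputable def tgt (T : Finset E) (φ : V → ℝ) (v : V) : ℝ :=
  φ v - (∑ e ∈ Tᶜ, ((if (ends e).1 = v then 1 else 0) + (if (ends e).2 = v then 1 else 0) : ℝ)) / 2

theorem sum_tgt (T : Finset E) (φ : V → ℝ) (S : Finset V) :
    ∑ v ∈ S, tgt ends T φ v = (∑ v ∈ S, φ v) - (∑ e ∈ Tᶜ, (ind S (ends e).1 + ind S (ends e).2)) / 2 := by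
  simp only [tgt, Finset.sum_sub_distrib, ← Finset.sum_div]
  rw [Finset.sum_comm]
  simp [Finset.sum_add_distrib, ind]

theorem sum_tgt_univ (T : Finset E) (φ : V → ℝ) :
    ∑ v, tgt ends T φ v = (∑ v, φ v) - (Tᶜ.card : ℝ) := by
  rw [sum_tgt]
  simp [ind]

theorem excess (T : Finset E) (φ : V → ℝ) (m : V → ℤ) (S : Finset V) :
    (PhiStab.degOn ends m Tᶜ S : ℝ) - ((∑ v ∈ S, φ v) - (LabGraph.cut ends S : ℝ) / 2) =
      ∑ v ∈ S, ((m v : ℝ) - tgt ends T φ v) +
        (∑ e ∈ T, |ind S (ends e).1 - ind S (ends e).2|) / 2 := by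
  have h1 : ((Tᶜ ∩ PhiStab.inner ends S).card : ℝ) =
      ∑ e ∈ Tᶜ, ind S (ends e).1 * ind S (ends e).2 := by
    have : Tᶜ ∩ PhiStab.inner ends S = Tᶜ.filter fun e => (ends e).1 ∈ S ∧ (ends e).2 ∈ S := by
      ext e
      simp [PhiStab.inner]
    rw [this, ← Finset.sum_boole]
    refine Finset.sum_congr rfl fun e _ => ?_
    simp only [ind]
    by_cases a : (ends e).1 ∈ S <;> by_cases b : (ends e).2 ∈ S <;> simp [a, b]
  have h2 : (LabGraph.cut ends S : ℝ) =
      ∑ e, |ind S (ends e).1 - ind S (ends e).2| := by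
    rw [LabGraph.cut, ← Finset.sum_boole]
    refine Finset.sum_congr rfl fun e _ => ?_
    simp only [ind]
    by_cases a : (ends e).1 ∈ S <;> by_cases b : (ends e).2 ∈ S <;> simp [a, b]
  have h3 : ∀ e, ind S (ends e).1 + ind S (ends e).2 =
      2 * (ind S (ends e).1 * ind S (ends e).2) + |ind S (ends e).1 - ind S (ends e).2| := by
    intro e
    simp only [ind]
    by_cases a : (ends e).1 ∈ S <;> by_cases b : (ends e).2 ∈ S <;> norm_num [a, b]
  rw [Finset.sum_sub_distrib, sum_tgt, PhiStab.degOn]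
  push_cast
  rw [h1, h2, ← Finset.sum_add_sum_compl T, Finset.sum_congr rfl fun e _ => h3 e,
    Finset.sum_add_distrib, ← Finset.mul_sum]
  ring

/-- A semistable datum with non-free edge set the complement of a connected spanning edge set. -/
theorem exists_semistable (T : Finset E) (hT : LabGraph.Connected (PhiStab.spanEnds ends T)) (b : ℤ)
    (φ : V → ℝ) (hφ : (∑ v, φ v) = (b : ℝ)) :
    ∃ m : V → ℤ, PhiStab.totDeg m Tᶜ = b ∧ PhiStab.IsSemistable ends φ m Tᶜ := by
  classical
  obtain ⟨r⟩ := hT.1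
  let c : ℤ := b - Tᶜ.card
  obtain ⟨g, hg⟩ := exists_flow ends T hT (tgt ends T φ - Pi.single r (c : ℝ)) (by
    simp [Pi.sub_apply, Finset.sum_sub_distrib, sum_tgt_univ, hφ, c])
  let k : E → ℝ := fun e => (round (g e) : ℝ)
  let m : V → ℤ := fun v => (Pi.single r c : V → ℤ) v +
    ∑ e ∈ T, round (g e) * ((if (ends e).1 = v then 1 else 0) - (if (ends e).2 = v then 1 else 0))
  have hm : ∀ v, (m v : ℝ) - tgt ends T φ v = dv ends T (k - g) v := by
    intro v
    have := congrFun hg v
    simp only [map_sub, Pi.sub_apply] at this ⊢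
    have hk : dv ends T k v = (m v : ℝ) - (Pi.single r (c : ℝ) : V → ℝ) v := by
      simp only [dv, LinearMap.coe_mk, AddHom.coe_mk, k, m, Pi.single_apply]
      push_cast
      simp
    rw [hk, this]
    ring
  refine ⟨m, ?_, fun S _ _ => ?_⟩
  · have h := sum_dv ends T (k - g) Finset.univ
    simp only [← hm, Finset.sum_sub_distrib, sum_tgt_univ, hφ, ind, Finset.mem_univ, if_true,
      sub_self, mul_zero, Finset.sum_const_zero] at h
    rw [PhiStab.totDeg]
    exact_mod_cast (by push_cast; linarith :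
      (((∑ v, m v) + (Tᶜ.card : ℤ) : ℤ) : ℝ) = (b : ℝ))
  · rw [← sub_nonneg, excess, Finset.sum_congr rfl fun v _ => hm v, sum_dv, Finset.sum_div,
      ← Finset.sum_add_distrib]
    refine Finset.sum_nonneg fun e _ => ?_
    have hr : |k e - g e| ≤ 1 / 2 := by
      rw [abs_sub_comm]
      exact abs_sub_round (g e)
    obtain ⟨h1, h2⟩ := abs_le.1 hr
    simp only [ind, Pi.sub_apply]
    by_cases a : (ends e).1 ∈ S <;> by_cases b : (ends e).2 ∈ S <;> simp [a, b] <;> linarith

omit [Fintype V] [DecidableEq V] [Fintype E] in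
/-- Lifting a path of an induced subgraph to the spanning subgraph. -/
theorem lift_path [Fintype E] [DecidableEq V] {S : Finset V} {T : Finset E}
    (hT : PhiStab.inner ends S ⊆ T) {v w : {x // x ∈ S}}
    (h : Relation.ReflTransGen (LabGraph.Adj (PhiStab.indEnds ends S)) v w) :
    Relation.ReflTransGen (LabGraph.Adj (PhiStab.spanEnds ends T)) v.1 w.1 := by
  induction h with
  | refl => exact .refl
  | @tail x y _ hxy ih =>
    obtain ⟨⟨e, he⟩, h⟩ := hxy
    refine ih.tail ⟨⟨e, hT he⟩, ?_⟩
    rcases h with h | h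
    · exact Or.inl (Prod.ext (congrArg (fun p => p.1.1) h) (congrArg (fun p => p.2.1) h))
    · exact Or.inr (Prod.ext (congrArg (fun p => p.1.1) h) (congrArg (fun p => p.2.1) h))

end Groth.Agent.GraphCutLib
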